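import Mathlib

/-!
Torsion subgroups of divisible abelian groups.
-/

set_option autoImplicit false
set_option linter.style.haveILetI false

noncomputable section

namespace TorsAlgLib

variable {M : Type*} [AddCommGroup M]

/-- The `n`-torsion subgroup. -/
def tb (M : Type*) [AddCommGroup M] (n : ℕ) : AddSubgroup M where
  carrier := {x | n • x = 0}
  zero_mem' := smul_zero n
  add_mem' {a b} ha hb := by show n • (a + b) = 0; rw [smul_add, ha, hb, add_zero]
  neg_mem' {a} ha := by show n • (-a) = 0; rw [smul_neg, ha, neg_zero]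

theorem mem_tb {n : ℕ} {x : M} : x ∈ tb M n ↔ n • x = 0 := Iff.rfl

/-- A compatible system of bases of the `l`-power torsion. -/
structure Tower (M : Type*) [AddCommGroup M] (l r : ℕ) where
  X : Fin r → ℕ → M
  zero : ∀ i, X i 0 = 0
  succ : ∀ i m, l • X i (m + 1) = X i m
  inj : ∀ z : Fin r → ℤ, ∑ i, z i • X i 1 = 0 → ∀ i, (l : ℤ) ∣ z i
  span : ∀ x, l • x = 0 → ∃ z : Fin r → ℤ, ∑ i, z i • X i 1 = x

variable {l : ℕ}

theorem Tower.torsion {r : ℕ} (T : Tower M l r) (i : Fin r) : ∀ m, l ^ m • T.X i m = 0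
  | 0 => by rw [T.zero, smul_zero]
  | m + 1 => by rw [pow_succ, mul_nsmul', T.succ, T.torsion i m]

theorem Tower.pow_smul {r : ℕ} (T : Tower M l r) (i : Fin r) (j : ℕ) : ∀ m, l ^ m • T.X i (j + m) = T.X i j
  | 0 => by rw [pow_zero, one_nsmul, add_zero]
  | m + 1 => by rw [pow_succ, mul_nsmul', ← Nat.add_assoc, T.succ, T.pow_smul i j m]

theorem Tower.exists_tower [hl : Fact l.Prime] (hdiv : ∀ x : M, ∃ y, l • y = x) [Finite (tb M l)] :
    ∃ r, Nonempty (Tower M l r) ∧ Nat.card (tb M l) = l ^ r := by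
  classical
  letI : Module (ZMod l) (tb M l) := AddCommGroup.zmodModule (n := l) (G := tb M l) fun x => Subtype.ext (mem_tb.mp x.2)
  haveI : Module.Finite (ZMod l) (tb M l) := (inferInstance : Module.Finite (ZMod l) (tb M l))
  let r := Module.finrank (ZMod l) (tb M l)
  let b := Module.finBasis (ZMod l) (tb M l)
  choose d hd using hdiv
  let X : Fin r → ℕ → M := fun i m => match m with
    | 0 => 0
    | m + 1 => Nat.rec ((b i : tb M l) : M) (fun _ y => d y) m
  have hb1 : ∀ i, X i 1 = (b i : M) := fun i => rfl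
  have key : ∀ z : Fin r → ℤ, ∑ i, z i • X i 1 = ((∑ i, ((z i : ℤ) : ZMod l) • b i : tb M l) : M) := fun z => by
    rw [AddSubgroup.val_finsetSum]
    refine Finset.sum_congr rfl fun i _ => ?_
    rw [hb1, Int.cast_smul_eq_zsmul, AddSubgroup.coe_zsmul]
  refine ⟨r, ⟨⟨X, fun i => rfl, fun i m => ?_, fun z hz i => ?_, fun x hx => ?_⟩⟩, ?_⟩
  · cases m with
    | zero => exact (b i).2
    | succ m => exact hd _
  · rw [key, ZeroMemClass.coe_eq_zero] at hz
    exact (ZMod.intCast_zmod_eq_zero_iff_dvd _ _).mp (Fintype.linearIndependent_iff.mp b.linearIndependent _ hz i)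
  · refine ⟨fun i => ((b.repr ⟨x, hx⟩ i).cast : ℤ), ?_⟩
    rw [key]
    have : (∑ i, (((b.repr ⟨x, hx⟩ i).cast : ℤ) : ZMod l) • b i) = ⟨x, hx⟩ := by
      simp only [ZMod.intCast_zmod_cast]
      exact b.sum_repr _
    rw [this]
  · rw [Module.natCard_eq_pow_finrank (K := ZMod l), Nat.card_zmod]

variable {r : ℕ} (T : Tower M l r)

/-- The coordinates of a torsion point. -/
def Tower.coord (m : ℕ) : (Fin r → ZMod (l ^ m)) →+ tb M (l ^ m) :=
  ∑ i, (ZMod.lift (l ^ m) ⟨zmultiplesHom (tb M (l ^ m)) ⟨T.X i m, T.torsion i m⟩, by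
    simp only [zmultiplesHom_apply, natCast_zsmul]
    exact Subtype.ext (T.torsion i m)⟩).comp (Pi.evalAddMonoidHom _ i)

theorem Tower.coord_intCast (m : ℕ) (z : Fin r → ℤ) :
    ((T.coord m fun i => (z i : ZMod (l ^ m))) : M) = ∑ i, z i • T.X i m := by
  rw [Tower.coord, AddMonoidHom.finsetSum_apply, AddSubgroup.val_finsetSum]
  refine Finset.sum_congr rfl fun i _ => ?_
  rw [AddMonoidHom.comp_apply, Pi.evalAddMonoidHom_apply, ZMod.lift_coe]
  rfl

theorem Tower.zsmul_eq (hl : l ≠ 0) (m : ℕ) :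
    ∀ (z : Fin r → ℤ), ∑ i, z i • T.X i m = 0 → ∀ i, (l : ℤ) ^ m ∣ z i := by
  induction m with
  | zero => exact fun z _ i => by simp
  | succ m ih =>
    intro z hz i
    have h1 : ∑ i, z i • T.X i 1 = 0 := by
      have := congrArg (fun x => l ^ m • x) hz
      simp only [Finset.smul_sum, smul_zero] at this
      rw [← this]
      refine Finset.sum_congr rfl fun j _ => ?_
      rw [smul_comm, add_comm m 1, T.pow_smul]
    choose w hw using T.inj z h1
    have h2 : ∑ i, w i • T.X i m = 0 := by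
      rw [← hz]
      refine Finset.sum_congr rfl fun j _ => ?_
      rw [hw j, mul_comm, mul_zsmul, natCast_zsmul, T.succ]
    rw [hw i, pow_succ']
    exact mul_dvd_mul_left _ (ih w h2 i)

theorem Tower.exists_zsmul (m : ℕ) : ∀ (x : M), l ^ m • x = 0 → ∃ z : Fin r → ℤ, ∑ i, z i • T.X i m = x := by
  induction m with
  | zero => exact fun x hx => ⟨0, by rw [pow_zero, one_nsmul] at hx; simp [hx]⟩
  | succ m ih =>
    intro x hx
    obtain ⟨w, hw⟩ := ih (l • x) (by rw [← mul_nsmul', ← pow_succ]; exact hx)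
    obtain ⟨u, hu⟩ := T.span (x - ∑ i, w i • T.X i (m + 1)) (by
      rw [nsmul_sub, Finset.smul_sum, ← hw, sub_eq_zero]
      refine Finset.sum_congr rfl fun j _ => ?_
      rw [smul_comm, T.succ])
    refine ⟨fun i => w i + u i * (l : ℤ) ^ m, ?_⟩
    have : ∀ i, (w i + u i * (l : ℤ) ^ m) • T.X i (m + 1) = w i • T.X i (m + 1) + u i • T.X i 1 := fun i => by
      rw [add_zsmul, mul_zsmul, ← Nat.cast_pow, natCast_zsmul, add_comm m 1, T.pow_smul]
    simp only [this, Finset.sum_add_distrib, hu]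
    abel

/-- The `l`-power torsion is free over `ZMod (l ^ m)`. -/
def Tower.equiv (hl : l ≠ 0) (m : ℕ) : (Fin r → ZMod (l ^ m)) ≃+ tb M (l ^ m) :=
  AddEquiv.ofBijective (T.coord m) (by
    constructor
    · refine (injective_iff_map_eq_zero _).mpr fun c hc => ?_
      have hc' : (fun i => ((ZMod.cast (c i) : ℤ) : ZMod (l ^ m))) = c := funext fun i => ZMod.intCast_zmod_cast _
      have h0 := congrArg Subtype.val hc
      rw [← hc', T.coord_intCast] at h0
      funext i
      rw [← ZMod.intCast_zmod_cast (c i), Pi.zero_apply, ZMod.intCast_zmod_eq_zero_iff_dvd]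
      exact_mod_cast T.zsmul_eq hl m _ h0 i
    · rintro ⟨x, hx⟩
      obtain ⟨z, hz⟩ := T.exists_zsmul m x hx
      exact ⟨fun i => (z i : ZMod (l ^ m)), Subtype.ext ((T.coord_intCast m z).trans hz)⟩)

theorem Tower.natCard_eq (T : Tower M l r) (hl : l ≠ 0) (m : ℕ) : Nat.card (tb M (l ^ m)) = l ^ (m * r) := by
  rw [← Nat.card_congr (T.equiv hl m).toEquiv, Nat.card_pi]
  simp [Nat.card_zmod, pow_mul]

/-- Coprime torsion splits. -/
def tbMulEquiv {a b : ℕ} (h : a.Coprime b) : tb M a × tb M b ≃+ tb M (a * b) :=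
  AddEquiv.ofBijective
    ((AddMonoidHom.coprod
      ((tb M a).subtype) ((tb M b).subtype)).codRestrict (tb M (a * b)) fun p => by
      have h1 : a • (p.1 : M) = 0 := p.1.2
      have h2 : b • (p.2 : M) = 0 := p.2.2
      show (a * b) • ((p.1 : M) + (p.2 : M)) = 0
      rw [nsmul_add, mul_nsmul, h1, smul_zero, zero_add, mul_nsmul', h2, smul_zero]) (by
    obtain ⟨u, v, huv⟩ := Int.isCoprime_iff_nat_coprime.mpr (show (a : ℤ).natAbs.Coprime (b : ℤ).natAbs from h)
    constructor
    · refine (injective_iff_map_eq_zero _).mpr fun p hp => ?_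
      have h1 : a • (p.1 : M) = 0 := p.1.2
      have h2 : b • (p.2 : M) = 0 := p.2.2
      have h0 : (p.1 : M) + (p.2 : M) = 0 := congrArg Subtype.val hp
      have hx : (p.1 : M) = 0 := by
        rw [← one_zsmul (p.1 : M), ← huv, add_zsmul, mul_zsmul, mul_zsmul, natCast_zsmul, natCast_zsmul, h1, smul_zero,
          zero_add, eq_neg_of_add_eq_zero_left h0, smul_neg, h2, neg_zero, smul_zero]
      rw [hx, zero_add] at h0
      exact Prod.ext (Subtype.ext hx) (Subtype.ext h0)
    · rintro ⟨x, hx⟩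
      have hx' : (a * b) • x = 0 := hx
      refine ⟨(⟨(v * b) • x, ?_⟩, ⟨(u * a) • x, ?_⟩), Subtype.ext ?_⟩
      · show a • ((v * b) • x) = 0
        rw [mul_zsmul, natCast_zsmul, smul_comm, ← mul_nsmul', hx', smul_zero]
      · show b • ((u * a) • x) = 0
        rw [mul_zsmul, natCast_zsmul, smul_comm, ← mul_nsmul, hx', smul_zero]
      · show (v * b) • x + (u * a) • x = x
        rw [← add_zsmul, add_comm, huv, one_zsmul])

/-- The `n`-torsion is `(ℤ/n)^r` when each prime part is. -/
theorem nonempty_equiv_zmod_pow (hdiv : ∀ (p : ℕ) (x : M), p.Prime → ∃ y, p • y = x) {r : ℕ} :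
    ∀ n, 0 < n → (∀ p, p.Prime → p ∣ n → Nat.card (tb M p) = p ^ r) →
      Nonempty (tb M n ≃+ (Fin r → ZMod n)) := by
  intro n
  induction n using Nat.recOnPrimeCoprime with
  | zero => exact fun h => absurd h (lt_irrefl 0)
  | prime_pow p e hp =>
    intro _ hcard
    rcases Nat.eq_zero_or_pos e with rfl | he
    · rw [pow_zero]
      haveI : Subsingleton (tb M 1) := ⟨fun x y => Subtype.ext (by
        rw [← one_nsmul (x : M), ← one_nsmul (y : M)]; exact x.2.trans y.2.symm)⟩
      exact ⟨{ toFun := fun _ => 0, invFun := fun _ => 0, left_inv := fun _ => Subsingleton.elim _ _,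
               right_inv := fun _ => funext fun _ => Subsingleton.elim _ _, map_add' := fun _ _ => (add_zero 0).symm }⟩
    haveI := Fact.mk hp
    have hc := hcard p hp (dvd_pow_self p he.ne')
    haveI : Finite (tb M p) := Nat.finite_of_card_ne_zero (by rw [hc]; exact pow_ne_zero _ hp.ne_zero)
    obtain ⟨r', ⟨T⟩, hr'⟩ := Tower.exists_tower (M := M) (l := p) (fun x => hdiv p x hp)
    obtain rfl : r' = r := Nat.pow_right_injective hp.two_le (hr'.symm.trans hc)
    exact ⟨(T.equiv hp.ne_zero e).symm⟩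
  | coprime a b ha hb hab iha ihb =>
    intro _ hcard
    obtain ⟨ea⟩ := iha (by omega) fun p hp hd => hcard p hp (hd.mul_right b)
    obtain ⟨eb⟩ := ihb (by omega) fun p hp hd => hcard p hp (hd.mul_left a)
    let c : (Fin r → ZMod (a * b)) ≃+ (Fin r → ZMod a) × (Fin r → ZMod b) :=
      { toFun := fun f => (fun i => (ZMod.chineseRemainder hab (f i)).1, fun i => (ZMod.chineseRemainder hab (f i)).2)
        invFun := fun q i => (ZMod.chineseRemainder hab).symm (q.1 i, q.2 i)
        left_inv := fun f => funext fun i => (ZMod.chineseRemainder hab).symm_apply_apply (f i)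
        right_inv := fun q => by simp
        map_add' := fun f g => by
          ext i <;> simp }
    exact ⟨(tbMulEquiv hab).symm.trans ((ea.prodCongr eb).trans c.symm)⟩

end TorsAlgLib

end
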